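import Mathlib
import Groth.Prelude

/-!
# Stable finitely generated submodules of a `G`-module over a Noetherian base
-/

set_option autoImplicit false
set_option backward.isDefEq.respectTransparency false
set_option backward.isDefEq.respectTransparency.types false
set_option linter.style.haveILetI false
set_option maxHeartbeats 1000000

universe u v

open CategoryTheory AlgebraicGeometry MonObj
open scoped TensorProduct

noncomputable section

namespace Groth.Agent.GModFgLib

variable {R : Type u} [CommRing R] {E : Type v} [AddCommGroup E] [Module R E]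

theorem mem_range_iff {B : Type u} [CommRing B] [Algebra R B] (P : Submodule R E) (y : B ⊗[R] E) :
    y ∈ LinearMap.range (P.subtype.baseChange B) ↔ P.mkQ.baseChange B y = 0 := by
  have h := lTensor_exact B (LinearMap.exact_subtype_mkQ P) P.mkQ_surjective
  exact (h y).symm

/-- Membership in the base change of a submodule is local on the test ring. -/
theorem mem_range_of_local {B : Type u} [CommRing B] [Algebra R B] (P : Submodule R E) (y : B ⊗[R] E)
    (s : Set B) (hs : Ideal.span s = ⊤)
    (h : ∀ b ∈ s, VecGrp.Wmap (IsScalarTower.toAlgHom R B (Localization.Away b)) y ∈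
      LinearMap.range (P.subtype.baseChange (Localization.Away b))) :
    y ∈ LinearMap.range (P.subtype.baseChange B) := by
  rw [mem_range_iff]
  set z := P.mkQ.baseChange B y with hz
  let I : Ideal B :=
    { carrier := {b | b • z = 0}
      add_mem' := fun {a b} (ha : a • z = 0) (hb : b • z = 0) => by
        show (a + b) • z = 0
        rw [add_smul, ha, hb, add_zero]
      zero_mem' := zero_smul B z
      smul_mem' := fun c x (hx : x • z = 0) => by
        show (c • x) • z = 0
        rw [smul_eq_mul, mul_smul, hx, smul_zero] }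
  suffices hI : I = ⊤ by
    have h1 : (1 : B) ∈ I := hI ▸ Submodule.mem_top
    have h2 : (1 : B) • z = 0 := h1
    rwa [one_smul] at h2
  rw [← Ideal.radical_eq_top, eq_top_iff, ← hs, Ideal.span_le]
  intro b hb
  let B' := Localization.Away b
  haveI : IsLocalizedModule (Submonoid.powers b) (TensorProduct.mk B B' (B ⊗[R] (E ⧸ P)) 1) :=
    (isLocalizedModule_iff_isBaseChange (Submonoid.powers b) B' _).2 (TensorProduct.isBaseChange _ _ _)
  have hv : (TensorProduct.AlgebraTensorModule.cancelBaseChange R B B' B' (E ⧸ P))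
      (TensorProduct.mk B B' (B ⊗[R] (E ⧸ P)) 1 z) = 0 := by
    have h0 := (mem_range_iff P _).1 (h b hb)
    rw [show P.mkQ.baseChange B' = (VecGrp.Whom P.mkQ).app B' from rfl,
      ← (VecGrp.Whom P.mkQ).naturality] at h0
    refine Eq.trans ?_ h0
    show _ = VecGrp.Wmap _ z
    induction z using TensorProduct.induction_on with
    | zero => simp
    | tmul a q =>
      rw [TensorProduct.mk_apply, TensorProduct.AlgebraTensorModule.cancelBaseChange_tmul,
        VecGrp.Wmap_tmul]
      simp [Algebra.smul_def]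
      rfl
    | add x y hx hy => simp only [map_add, hx, hy]
  have h2 : TensorProduct.mk B B' (B ⊗[R] (E ⧸ P)) 1 z = TensorProduct.mk B B' (B ⊗[R] (E ⧸ P)) 1 0 := by
    rw [map_zero]
    exact (LinearEquiv.map_eq_zero_iff _).1 hv
  obtain ⟨⟨c, n, rfl⟩, hc⟩ := IsLocalizedModule.exists_of_eq (S := Submonoid.powers b) h2
  refine ⟨n, ?_⟩
  show b ^ n • z = 0
  simpa [Submonoid.smul_def] using hc

/-- An element of a base change lies in the base change of a finitely generated submodule. -/
theorem exists_fg_mem_range {B : Type u} [CommRing B] [Algebra R B] (y : B ⊗[R] E) :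
    ∃ P : Submodule R E, P.FG ∧ ∀ Q, P ≤ Q → y ∈ LinearMap.range (Q.subtype.baseChange B) := by
  induction y using TensorProduct.induction_on with
  | zero => exact ⟨⊥, Submodule.fg_bot, fun Q _ => Submodule.zero_mem _⟩
  | tmul b e => exact ⟨R ∙ e, Submodule.fg_span_singleton e, fun Q hQ =>
      ⟨b ⊗ₜ ⟨e, hQ (Submodule.mem_span_singleton_self e)⟩, rfl⟩⟩
  | add x y hx hy =>
    obtain ⟨P, hP, hx⟩ := hx
    obtain ⟨P', hP', hy⟩ := hy
    exact ⟨P ⊔ P', hP.sup hP', fun Q hQ =>
      Submodule.add_mem _ (hx Q (le_sup_left.trans hQ)) (hy Q (le_sup_right.trans hQ))⟩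

/-- The range of the base change of a submodule is stable under maps of test rings. -/
theorem Wmap_mem_range {B B' : Type u} [CommRing B] [Algebra R B] [CommRing B'] [Algebra R B']
    (φ : B →ₐ[R] B') (P : Submodule R E) {y : B ⊗[R] E}
    (hy : y ∈ LinearMap.range (P.subtype.baseChange B)) :
    VecGrp.Wmap φ y ∈ LinearMap.range (P.subtype.baseChange B') := by
  obtain ⟨w, rfl⟩ := hy
  exact ⟨_, (VecGrp.baseChange_natural P.subtype φ w).symm⟩

variable (G : Over (Spec (CommRingCat.of R)))

/-- An affine chart of `G`. -/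
structure Chart where
  A : Type u
  [ring : CommRing A]
  [alg : Algebra R A]
  [flat : Module.Flat R A]
  pt : VecGrp.pt R A ⟶ G

attribute [instance] Chart.ring Chart.alg Chart.flat

/-- Finitely many flat affine charts through which every point factors locally. -/
theorem exists_charts [Flat G.hom] [QuasiCompact G.hom] :
    ∃ (n : ℕ) (c : Fin n → Chart G), ∀ (B : Type u) [CommRing B] [Algebra R B] (g : VecGrp.pt R B ⟶ G),
      ∃ s : Set B, Ideal.span s = ⊤ ∧ ∀ b ∈ s, ∃ (i : Fin n) (ψ : (c i).A →ₐ[R] Localization.Away b),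
        VecGrp.ptMap ψ ≫ (c i).pt = VecGrp.ptMap (IsScalarTower.toAlgHom R B (Localization.Away b)) ≫ g := by
  haveI : CompactSpace ↥G.left := QuasiCompact.compactSpace_of_compactSpace G.hom
  let 𝒰 := G.left.affineCover.finiteSubcover
  let e := Fintype.equivFin 𝒰.I₀
  have hch : ∀ i, ∃ c : Chart G, IsOpenImmersion c.pt.left ∧
      Set.range c.pt.left.base = Set.range (𝒰.f i).base := fun i => by
    haveI : IsAffine (𝒰.X i) := by
      show IsAffine (G.left.affineCover.X _)
      infer_instance
    let A : CommRingCat.{u} := Γ(𝒰.X i, ⊤)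
    let j : Spec A ⟶ G.left := (𝒰.X i).isoSpec.inv ≫ 𝒰.f i
    let f : CommRingCat.of R ⟶ A := Spec.preimage (j ≫ G.hom)
    have hf : Spec.map f = j ≫ G.hom := Spec.map_preimage _
    letI : Algebra R A := f.hom.toAlgebra
    haveI : Module.Flat R A := by
      show f.hom.Flat
      refine (HasRingHomProperty.Spec_iff (P := @Flat)).1 ?_
      rw [hf]
      infer_instance
    refine ⟨{ A := A, pt := Over.homMk j hf.symm }, inferInstanceAs (IsOpenImmersion j), ?_⟩
    show Set.range ((𝒰.f i).base ∘ (𝒰.X i).isoSpec.inv.base) = _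
    exact (Scheme.Hom.homeomorph (𝒰.X i).isoSpec.inv).surjective.range_comp _
  choose ch hopen hrange using hch
  refine ⟨_, fun k => ch (e.symm k), fun B _ _ g => ?_⟩
  refine ⟨{b | ∃ i, (↑(PrimeSpectrum.basicOpen b) : Set (PrimeSpectrum B)) ⊆
      g.left.base ⁻¹' Set.range (ch i).pt.left.base}, ?_, fun b hb => ?_⟩
  · by_contra hne
    obtain ⟨P, hP, hle⟩ := Ideal.exists_le_maximal _ hne
    let p : PrimeSpectrum B := ⟨P, hP.isPrime⟩
    obtain ⟨i, x, hx⟩ := 𝒰.exists_eq (g.left.base p)
    haveI := hopen i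
    obtain ⟨_, ⟨b, rfl⟩, hpb, hbU⟩ := PrimeSpectrum.isTopologicalBasis_basic_opens.exists_subset_of_mem_open
      (a := p) (u := g.left.base ⁻¹' Set.range (ch i).pt.left.base)
      (by rw [Set.mem_preimage, hrange i]; exact ⟨x, hx⟩)
      (IsOpen.preimage g.left.base.hom.continuous (ch i).pt.left.isOpenEmbedding.isOpen_range)
    exact hpb (hle (Ideal.subset_span ⟨i, hbU⟩))
  · obtain ⟨i, hi⟩ := hb
    haveI := hopen i
    let φ := IsScalarTower.toAlgHom R B (Localization.Away b)
    let g' := (VecGrp.ptMap φ ≫ g).left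
    have hg' : Set.range g'.base ⊆ Set.range (ch i).pt.left.base := by
      rintro _ ⟨q, rfl⟩
      refine hi ?_
      have hq : (Spec.map (CommRingCat.ofHom φ.toRingHom)).base q ∈
          Set.range (PrimeSpectrum.comap (algebraMap B (Localization.Away b))) := ⟨q, rfl⟩
      rw [PrimeSpectrum.localization_away_comap_range (Localization.Away b) b] at hq
      exact hq
    let ψ₀ := Spec.preimage (IsOpenImmersion.lift (ch i).pt.left g' hg')
    have hψ₀ : Spec.map ψ₀ ≫ (ch i).pt.left = g' :=
      (congrArg (· ≫ (ch i).pt.left) (Spec.map_preimage _)).trans (IsOpenImmersion.lift_fac _ _ _)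
    have hcomp : CommRingCat.ofHom (algebraMap R (ch i).A) ≫ ψ₀ =
        CommRingCat.ofHom (algebraMap R (Localization.Away b)) := by
      refine Spec.map_injective ?_
      rw [Spec.map_comp]
      have hw : Spec.map (CommRingCat.ofHom (algebraMap R (ch i).A)) = (ch i).pt.left ≫ G.hom :=
        (Over.w (ch i).pt).symm
      rw [hw]
      exact ((Category.assoc _ _ _).symm.trans (congrArg (· ≫ G.hom) hψ₀)).trans (Over.w (VecGrp.ptMap φ ≫ g))
    refine ⟨e i, ?_⟩
    show ∃ ψ, VecGrp.ptMap ψ ≫ (ch (e.symm (e i))).pt = _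
    rw [e.symm_apply_apply]
    refine ⟨{ toRingHom := ψ₀.hom, commutes' := fun r => RingHom.congr_fun (congrArg CommRingCat.Hom.hom hcomp) r }, ?_⟩
    exact Over.OverMorphism.ext hψ₀

variable {G} [GrpObj G] (m : VecGrp.GMod G E)

/-- Stable finitely generated submodules exist. -/
theorem exists_stable [IsNoetherianRing R] [Flat G.hom] [QuasiCompact G.hom] (M : Submodule R E) (hM : M.FG) :
    ∃ N : Submodule R E, M ≤ N ∧ N.FG ∧
      ∀ (B : Type u) [CommRing B] [Algebra R B] (g : VecGrp.pt R B ⟶ G) (x : E), x ∈ N →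
        m.ρ B g ((1 : B) ⊗ₜ[R] x) ∈ LinearMap.range (N.subtype.baseChange B) := by
  classical
  obtain ⟨n, c, hc⟩ := exists_charts G
  -- membership at every point follows from membership at the charts
  have key : ∀ (P : Submodule R E) (x : E),
      (∀ i, m.ρ _ (c i).pt ((1 : (c i).A) ⊗ₜ[R] x) ∈ LinearMap.range (P.subtype.baseChange (c i).A)) →
      ∀ (B : Type u) [CommRing B] [Algebra R B] (g : VecGrp.pt R B ⟶ G),
        m.ρ B g ((1 : B) ⊗ₜ[R] x) ∈ LinearMap.range (P.subtype.baseChange B) := by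
    intro P x hx B _ _ g
    obtain ⟨s, hs, hs'⟩ := hc B g
    refine mem_range_of_local P _ s hs fun b hb => ?_
    obtain ⟨i, ψ, hψ⟩ := hs' b hb
    have h := Wmap_mem_range ψ P (hx i)
    rw [m.naturality, hψ] at h
    rw [m.naturality]
    simpa using h
  obtain ⟨S, hS⟩ := hM
  have hex := fun (x : E) (i : Fin n) => exists_fg_mem_range (m.ρ _ (c i).pt ((1 : (c i).A) ⊗ₜ[R] x))
  choose P hP hPx using hex
  let N₀ : Submodule R E := M ⊔ S.sup fun x => Finset.univ.sup (P x)
  have hN₀fg : N₀.FG := by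
    refine (hS ▸ Submodule.fg_span (Finset.finite_toSet S)).sup ?_
    refine Finset.sup_induction Submodule.fg_bot (fun a ha b hb => ha.sup hb) fun x _ => ?_
    exact Finset.sup_induction Submodule.fg_bot (fun a ha b hb => ha.sup hb) fun i _ => hP x i
  let L : ∀ i, E →ₗ[R] (c i).A ⊗[R] (E ⧸ N₀) := fun i =>
    (N₀.mkQ.baseChange (c i).A).restrictScalars R ∘ₗ ((m.ρ _ (c i).pt).toLinearMap.restrictScalars R) ∘ₗ
      TensorProduct.mk R (c i).A E 1
  let N : Submodule R E := N₀ ⊓ ⨅ i, LinearMap.ker (L i)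
  have hN : ∀ {x : E}, x ∈ N ↔ x ∈ N₀ ∧ ∀ i, L i x = 0 := fun {x} => by
    simp [N, Submodule.mem_inf, Submodule.mem_iInf, LinearMap.mem_ker]
  have hMN : M ≤ N := by
    rw [← hS, Submodule.span_le]
    intro x hx
    refine hN.2 ⟨(le_sup_left : M ≤ N₀) (hS ▸ Submodule.subset_span hx : x ∈ M), fun i => ?_⟩
    exact (mem_range_iff N₀ _).1 (hPx x i N₀
      (((Finset.le_sup (f := P x) (Finset.mem_univ i)).trans
        (Finset.le_sup (f := fun x => Finset.univ.sup (P x)) hx)).trans le_sup_right))
  haveI : IsNoetherian R N₀ := isNoetherian_of_fg_of_noetherian N₀ hN₀fg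
  refine ⟨N, hMN, Submodule.FG.of_le hN₀fg inf_le_left, fun B _ _ g x hx => key N x (fun j => ?_) B g⟩
  obtain ⟨hx₀, hxL⟩ := hN.1 hx
  obtain ⟨w, (hw : N₀.subtype.baseChange (c j).A w = m.ρ _ (c j).pt ((1 : (c j).A) ⊗ₜ[R] x))⟩ :=
    (mem_range_iff N₀ _).2 (hxL j)
  let A := (c j).A
  let Ψ : N₀ →ₗ[R] (∀ i, (c i).A ⊗[R] (E ⧸ N₀)) := LinearMap.pi fun i => L i ∘ₗ N₀.subtype
  let incl : N →ₗ[R] N₀ := Submodule.inclusion inf_le_left
  have hex : Function.Exact incl Ψ := fun a => by
    constructor
    · intro ha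
      exact ⟨⟨a.1, hN.2 ⟨a.2, fun i => congrFun ha i⟩⟩, rfl⟩
    · rintro ⟨b, rfl⟩
      exact funext fun i => (hN.1 b.2).2 i
  have hΨ : Ψ.lTensor A w = 0 := by
    refine (TensorProduct.piRight R R A fun i => (c i).A ⊗[R] (E ⧸ N₀)).injective ?_
    rw [map_zero]
    funext i
    let C := A ⊗[R] (c i).A
    let ia : A →ₐ[R] C := Algebra.TensorProduct.includeLeft
    let ib : (c i).A →ₐ[R] C := Algebra.TensorProduct.includeRight
    let h := m.ρ C (VecGrp.ptMap ib ≫ (c i).pt)
    have e1 : ∀ w : A ⊗[R] N₀,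
        TensorProduct.piRight R R A (fun i => (c i).A ⊗[R] (E ⧸ N₀)) (Ψ.lTensor A w) i =
          TensorProduct.assoc R A (c i).A (E ⧸ N₀)
            (N₀.mkQ.baseChange C (h (VecGrp.Wmap ia (N₀.subtype.baseChange A w)))) := by
      intro w
      induction w using TensorProduct.induction_on with
      | zero => simp
      | add x y hx hy => simp only [map_add, Pi.add_apply, hx, hy]
      | tmul a y =>
        have e2 : h ((ia a) ⊗ₜ[R] (y : E)) =
            (a ⊗ₜ[R] (1 : (c i).A) : C) • VecGrp.Wmap ib (m.ρ _ (c i).pt ((1 : (c i).A) ⊗ₜ[R] (y : E))) := by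
          rw [m.naturality, ← map_smul, VecGrp.Wmap_tmul, map_one, TensorProduct.smul_tmul', smul_eq_mul,
            _root_.mul_one]
          rfl
        rw [LinearMap.baseChange_tmul, VecGrp.Wmap_tmul, Submodule.subtype_apply, e2, map_smul,
          ← VecGrp.baseChange_natural]
        simp only [LinearMap.lTensor_tmul, TensorProduct.piRight_apply, TensorProduct.piRightHom_tmul]
        show a ⊗ₜ[R] (L i y) = _
        generalize hq : N₀.mkQ.baseChange (c i).A (m.ρ _ (c i).pt ((1 : (c i).A) ⊗ₜ[R] (y : E))) = q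
        rw [show L i y = q from hq]
        clear hq
        induction q using TensorProduct.induction_on with
        | zero => simp
        | add p q hp hq => simp only [TensorProduct.tmul_add, map_add, smul_add, hp, hq]
        | tmul b q =>
          rw [VecGrp.Wmap_tmul, TensorProduct.smul_tmul']
          rw [smul_eq_mul]
          show _ = TensorProduct.assoc R A (c i).A (E ⧸ N₀) (((a ⊗ₜ[R] (1 : (c i).A)) * ((1 : A) ⊗ₜ[R] b)) ⊗ₜ[R] q)
          rw [Algebra.TensorProduct.tmul_mul_tmul, _root_.mul_one, _root_.one_mul, TensorProduct.assoc_tmul]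
    rw [e1, Pi.zero_apply, hw, m.naturality, VecGrp.Wmap_tmul, map_one]
    have hmem := key N₀ x (fun k => (mem_range_iff N₀ _).2 (hxL k)) C
      ((VecGrp.ptMap ib ≫ (c i).pt) * (VecGrp.ptMap ia ≫ (c j).pt))
    rw [map_mul, LinearEquiv.mul_apply] at hmem
    rw [show h (m.ρ C (VecGrp.ptMap ia ≫ (c j).pt) ((1 : C) ⊗ₜ[R] x)) = _ from rfl]
    rw [(mem_range_iff N₀ _).1 hmem, map_zero]
  obtain ⟨v, hv⟩ := (Module.Flat.lTensor_exact A hex _).1 hΨ
  refine ⟨v, ?_⟩
  rw [← hw, ← hv]
  show _ = N₀.subtype.baseChange A (incl.baseChange A v)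
  rw [← LinearMap.comp_apply, ← LinearMap.baseChange_comp]
  rfl

end Groth.Agent.GModFgLib
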