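import Mathlib
import Groth.Prelude
import Groth.Agent.GModFgLib.Basic

/-!
# Global functions on a flat group scheme and tensor products with flat modules
-/

set_option autoImplicit false
set_option backward.isDefEq.respectTransparency false
set_option backward.isDefEq.respectTransparency.types false
set_option linter.style.haveILetI false
set_option maxHeartbeats 1000000

universe u v

open CategoryTheory AlgebraicGeometry
open scoped TensorProduct

noncomputable section

namespace Groth.Agent.GModFgLib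

variable {R : Type u} [CommRing R] (G : Over (Spec (CommRingCat.of R)))

/-- The `R`-algebra of global functions on `G`. -/
@[reducible] def topAlg : Algebra R Γ(G.left, ⊤) :=
  (((Scheme.ΓSpecIso (CommRingCat.of R)).inv ≫ G.hom.appTop).hom).toAlgebra

attribute [local instance] topAlg

/-- Sections over an affine open. -/
abbrev Sec (U : G.left.affineOpens) : Type u := Γ(G.left, (U : G.left.Opens))

/-- The structure map of the sections over an affine open. -/
def strMap (U : G.left.affineOpens) : CommRingCat.of R ⟶ Γ(G.left, (U : G.left.Opens)) :=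
  Spec.preimage (U.2.fromSpec ≫ G.hom)

instance secAlg (U : G.left.affineOpens) : Algebra R (Sec G U) := (strMap G U).hom.toAlgebra

theorem specMap_algebraMap (U : G.left.affineOpens) :
    Spec.map (CommRingCat.ofHom (algebraMap R (Sec G U))) = U.2.fromSpec ≫ G.hom :=
  Spec.map_preimage _

instance secFlat [Flat G.hom] (U : G.left.affineOpens) : Module.Flat R (Sec G U) := by
  show (strMap G U).hom.Flat
  refine (HasRingHomProperty.Spec_iff (P := @Flat)).1 ?_
  rw [strMap, Spec.map_preimage]
  infer_instance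

/-- The tautological point of an affine open. -/
def secPt (U : G.left.affineOpens) : VecGrp.pt R (Sec G U) ⟶ G :=
  Over.homMk U.2.fromSpec (specMap_algebraMap G U).symm

/-- Restriction of sections between affine opens. -/
def res {U V : G.left.affineOpens} (h : (V : G.left.Opens) ≤ U) : Sec G U →ₐ[R] Sec G V where
  toRingHom := (G.left.presheaf.map (homOfLE h).op).hom
  commutes' r := by
    have e : CommRingCat.ofHom (algebraMap R (Sec G U)) ≫ G.left.presheaf.map (homOfLE h).op =
        CommRingCat.ofHom (algebraMap R (Sec G V)) := by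
      refine Spec.map_injective ?_
      rw [Spec.map_comp, specMap_algebraMap, specMap_algebraMap, ← Category.assoc]
      exact congrArg (· ≫ G.hom) (IsAffineOpen.map_fromSpec U.2 V.2 (homOfLE h).op)
    exact RingHom.congr_fun (congrArg CommRingCat.Hom.hom e) r

theorem ptMap_res {U V : G.left.affineOpens} (h : (V : G.left.Opens) ≤ U) :
    VecGrp.ptMap (res G h) ≫ secPt G U = secPt G V :=
  Over.OverMorphism.ext (IsAffineOpen.map_fromSpec U.2 V.2 (homOfLE h).op)

variable {G}

/-- The value of global functions at a point. -/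
def ev {B : Type u} [CommRing B] [Algebra R B] (g : VecGrp.pt R B ⟶ G) : Γ(G.left, ⊤) →ₐ[R] B where
  toRingHom := ((Scheme.ΓSpecIso (CommRingCat.of B)).hom.hom).comp g.left.appTop.hom
  commutes' r := by
    have hw : g.left ≫ G.hom = Spec.map (CommRingCat.ofHom (algebraMap R B)) := Over.w g
    have h : ((Scheme.ΓSpecIso (CommRingCat.of R)).inv ≫ G.hom.appTop) ≫ g.left.appTop ≫
        (Scheme.ΓSpecIso (CommRingCat.of B)).hom = CommRingCat.ofHom (algebraMap R B) := by
      have h2 := Scheme.ΓSpecIso_naturality (CommRingCat.ofHom (algebraMap R B))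
      rw [← hw, Scheme.Hom.comp_appTop, Category.assoc] at h2
      rw [Category.assoc, h2, Iso.inv_hom_id_assoc]
    exact RingHom.congr_fun (congrArg CommRingCat.Hom.hom h) r

theorem ev_ptMap {B B' : Type u} [CommRing B] [Algebra R B] [CommRing B'] [Algebra R B'] (φ : B →ₐ[R] B')
    (g : VecGrp.pt R B ⟶ G) (a : Γ(G.left, ⊤)) : ev (VecGrp.ptMap φ ≫ g) a = φ (ev g a) := by
  have h : (VecGrp.ptMap φ ≫ g).left.appTop ≫ (Scheme.ΓSpecIso (CommRingCat.of B')).hom =
      g.left.appTop ≫ (Scheme.ΓSpecIso (CommRingCat.of B)).hom ≫ CommRingCat.ofHom φ.toRingHom := by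
    rw [← Scheme.ΓSpecIso_naturality (CommRingCat.ofHom φ.toRingHom), Over.comp_left,
      Scheme.Hom.comp_appTop, Category.assoc]
    rfl
  exact RingHom.congr_fun (congrArg CommRingCat.Hom.hom h) a

theorem ev_secPt (U : G.left.affineOpens) (a : Γ(G.left, ⊤)) :
    ev (secPt G U) a = G.left.presheaf.map (homOfLE le_top).op a := by
  have h : U.2.fromSpec.appTop ≫ (Scheme.ΓSpecIso Γ(G.left, (U : G.left.Opens))).hom =
      G.left.presheaf.map (homOfLE le_top).op := by
    rw [Scheme.Hom.appTop, U.2.fromSpec_app_of_le ⊤ le_top]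
    simp
  exact RingHom.congr_fun (congrArg CommRingCat.Hom.hom h) a

/-- Every point factors locally through a given affine cover. -/
theorem locally_factors {ι : Type*} (U : ι → G.left.affineOpens)
    (hU : ⨆ i, (U i : G.left.Opens) = ⊤) (B : Type u) [CommRing B] [Algebra R B] (g : VecGrp.pt R B ⟶ G) :
    ∃ s : Set B, Ideal.span s = ⊤ ∧ ∀ b ∈ s, ∃ (i : ι) (ψ : Sec G (U i) →ₐ[R] Localization.Away b),
      VecGrp.ptMap ψ ≫ secPt G (U i) = VecGrp.ptMap (IsScalarTower.toAlgHom R B (Localization.Away b)) ≫ g := by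
  refine ⟨{b | ∃ i, (↑(PrimeSpectrum.basicOpen b) : Set (PrimeSpectrum B)) ⊆
      g.left.base ⁻¹' (U i : G.left.Opens)}, ?_, fun b hb => ?_⟩
  · by_contra hne
    obtain ⟨P, hP, hle⟩ := Ideal.exists_le_maximal _ hne
    let p : PrimeSpectrum B := ⟨P, hP.isPrime⟩
    obtain ⟨i, hi⟩ : ∃ i, g.left.base p ∈ (U i : G.left.Opens) := by
      have := hU.ge (TopologicalSpace.Opens.mem_top (g.left.base p))
      exact TopologicalSpace.Opens.mem_iSup.1 this
    obtain ⟨_, ⟨b, rfl⟩, hpb, hbU⟩ := PrimeSpectrum.isTopologicalBasis_basic_opens.exists_subset_of_mem_open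
      (a := p) (u := g.left.base ⁻¹' (U i : G.left.Opens)) hi
      (IsOpen.preimage g.left.base.hom.continuous (U i : G.left.Opens).2)
    exact hpb (hle (Ideal.subset_span ⟨i, hbU⟩))
  · obtain ⟨i, hi⟩ := hb
    let φ := IsScalarTower.toAlgHom R B (Localization.Away b)
    let g' := (VecGrp.ptMap φ ≫ g).left
    let j := (U i).2.fromSpec
    have hg' : Set.range g'.base ⊆ Set.range j.base := by
      rintro _ ⟨q, rfl⟩
      rw [(U i).2.range_fromSpec]
      refine hi ?_
      have hq : (Spec.map (CommRingCat.ofHom φ.toRingHom)).base q ∈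
          Set.range (PrimeSpectrum.comap (algebraMap B (Localization.Away b))) := ⟨q, rfl⟩
      rw [PrimeSpectrum.localization_away_comap_range (Localization.Away b) b] at hq
      exact hq
    let ψ₀ := Spec.preimage (IsOpenImmersion.lift j g' hg')
    have hψ₀ : Spec.map ψ₀ ≫ j = g' :=
      (congrArg (· ≫ j) (Spec.map_preimage _)).trans (IsOpenImmersion.lift_fac _ _ _)
    have hcomp : CommRingCat.ofHom (algebraMap R (Sec G (U i))) ≫ ψ₀ =
        CommRingCat.ofHom (algebraMap R (Localization.Away b)) := by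
      refine Spec.map_injective ?_
      rw [Spec.map_comp, specMap_algebraMap]
      exact ((Category.assoc _ _ _).symm.trans (congrArg (· ≫ G.hom) hψ₀)).trans (Over.w (VecGrp.ptMap φ ≫ g))
    refine ⟨i, { toRingHom := ψ₀.hom, commutes' := fun r => RingHom.congr_fun (congrArg CommRingCat.Hom.hom hcomp) r }, ?_⟩
    exact Over.OverMorphism.ext hψ₀

variable (W : Type u) [AddCommGroup W] [Module R W]

/-- Tensor products distribute over finite products on the left. -/
def piL {ι : Type*} [Fintype ι] [DecidableEq ι] (M : ι → Type u) [∀ i, AddCommGroup (M i)] [∀ i, Module R (M i)] :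
    ((∀ i, M i) ⊗[R] W) ≃ₗ[R] ∀ i, M i ⊗[R] W :=
  TensorProduct.comm R _ _ ≪≫ₗ TensorProduct.piRight R R W M ≪≫ₗ
    LinearEquiv.piCongrRight fun _ => TensorProduct.comm R _ _

theorem piL_tmul {ι : Type*} [Fintype ι] [DecidableEq ι] (M : ι → Type u) [∀ i, AddCommGroup (M i)]
    [∀ i, Module R (M i)] (f : ∀ i, M i) (w : W) (i : ι) : piL (R := R) W M (f ⊗ₜ[R] w) i = f i ⊗ₜ[R] w := by
  simp [piL]

/-- Gluing in a tensor product with a flat module. -/
theorem exists_glue [Module.Flat R W] [QuasiCompact G.hom] [QuasiSeparated G.hom]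
    {n : ℕ} (U : Fin n → G.left.affineOpens) (hU : ⨆ i, (U i : G.left.Opens) = ⊤)
    (t : ∀ j, Sec G (U j) ⊗[R] W)
    (ht : ∀ (j k : Fin n) (V : G.left.affineOpens) (hj : (V : G.left.Opens) ≤ U j) (hk : (V : G.left.Opens) ≤ U k),
      (res G hj).toLinearMap.rTensor W (t j) = (res G hk).toLinearMap.rTensor W (t k)) :
    ∃! z : Γ(G.left, ⊤) ⊗[R] W, ∀ j, (ev (secPt G (U j))).toLinearMap.rTensor W z = t j := by
  classical
  haveI : CompactSpace ↥G.left := QuasiCompact.compactSpace_of_compactSpace G.hom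
  haveI : QuasiSeparatedSpace ↥G.left := quasiSeparatedSpace_of_quasiSeparated G.hom
  have hov : ∀ p : Fin n × Fin n, ∃ s : Set G.left.affineOpens, s.Finite ∧
      ((U p.1 : G.left.Opens) ⊓ U p.2) = ⨆ V ∈ s, (V : G.left.Opens) := fun p => by
    obtain ⟨Us, hsub, hfin, heq⟩ := (Scheme.isBasis_affineOpens G.left).exists_finite_of_isCompact
      (U := (U p.1 : G.left.Opens) ⊓ U p.2)
      (QuasiSeparatedSpace.inter_isCompact (U p.1).1.1 (U p.2).1.1 (U p.1).1.2 (U p.1).2.isCompact (U p.2).1.2 (U p.2).2.isCompact)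
    refine ⟨Subtype.val ⁻¹' Us, hfin.preimage Subtype.val_injective.injOn, heq.trans ?_⟩
    refine le_antisymm (sSup_le fun V hV => le_iSup₂_of_le ⟨V, hsub hV⟩ hV le_rfl) (iSup₂_le fun V hV => le_sSup hV)
  choose s hs hov using hov
  haveI : ∀ p, Fintype (s p) := fun p => (hs p).fintype
  let ι := Σ p : Fin n × Fin n, s p
  let V : ι → G.left.affineOpens := fun q => q.2.1
  have hV1 : ∀ q : ι, (V q : G.left.Opens) ≤ U q.1.1 := fun q =>
    ((le_iSup₂ (f := fun V (_ : V ∈ s q.1) => (V : G.left.Opens)) q.2.1 q.2.2).trans (hov q.1).ge).trans inf_le_left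
  have hV2 : ∀ q : ι, (V q : G.left.Opens) ≤ U q.1.2 := fun q =>
    ((le_iSup₂ (f := fun V (_ : V ∈ s q.1) => (V : G.left.Opens)) q.2.1 q.2.2).trans (hov q.1).ge).trans inf_le_right
  let Φ : Γ(G.left, ⊤) →ₗ[R] ∀ j, Sec G (U j) := LinearMap.pi fun j => (ev (secPt G (U j))).toLinearMap
  let Ψ : (∀ j, Sec G (U j)) →ₗ[R] ∀ q : ι, Sec G (V q) := LinearMap.pi fun q =>
    (res G (hV1 q)).toLinearMap ∘ₗ LinearMap.proj q.1.1 - (res G (hV2 q)).toLinearMap ∘ₗ LinearMap.proj q.1.2
  have hΦ : ∀ a j, Φ a j = G.left.presheaf.map (homOfLE le_top).op a := fun a j => ev_secPt (U j) a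
  have hinj : Function.Injective Φ := fun a b hab => by
    refine G.left.sheaf.eq_of_locally_eq' (fun j => (U j : G.left.Opens)) ⊤ (fun j => homOfLE le_top) hU.ge a b fun j => ?_
    exact ((hΦ a j).symm.trans (congrFun hab j)).trans (hΦ b j)
  have hex : Function.Exact Φ Ψ := by
    intro f
    constructor
    · intro hf
      have hcompat : TopCat.Presheaf.IsCompatible G.left.sheaf.obj (fun j => (U j : G.left.Opens)) f := by
        intro j k
        refine G.left.sheaf.eq_of_locally_eq' (fun q : s (j, k) => ((q.1 : G.left.affineOpens) : G.left.Opens))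
          _ (fun q => homOfLE ((le_iSup₂ (f := fun V (_ : V ∈ s (j, k)) => (V : G.left.Opens)) q.1 q.2).trans
            (hov (j, k)).ge)) ?_ _ _ fun q => ?_
        · exact (hov (j, k)).le.trans (iSup₂_le fun V hV => le_iSup (fun q : s (j, k) => ((q.1 : G.left.affineOpens) : G.left.Opens)) ⟨V, hV⟩)
        · rw [← ConcreteCategory.comp_apply, ← ConcreteCategory.comp_apply, ← Functor.map_comp, ← Functor.map_comp]
          exact sub_eq_zero.1 (congrFun hf ⟨(j, k), q⟩)
      obtain ⟨a, ha, -⟩ := G.left.sheaf.existsUnique_gluing' (fun j => (U j : G.left.Opens)) ⊤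
        (fun j => homOfLE le_top) hU.ge f hcompat
      exact ⟨a, funext fun j => (hΦ a j).trans (ha j)⟩
    · rintro ⟨a, rfl⟩
      refine funext fun q => sub_eq_zero.2 ?_
      show res G (hV1 q) (ev (secPt G (U q.1.1)) a) = res G (hV2 q) (ev (secPt G (U q.1.2)) a)
      rw [← ev_ptMap, ← ev_ptMap, ptMap_res, ptMap_res]
  have eΦ : ∀ (z : Γ(G.left, ⊤) ⊗[R] W) j,
      piL W _ (Φ.rTensor W z) j = (ev (secPt G (U j))).toLinearMap.rTensor W z := fun z j => by
    induction z using TensorProduct.induction_on with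
    | zero => simp
    | tmul a w => rw [LinearMap.rTensor_tmul, piL_tmul]; rfl
    | add x y hx hy => simp only [map_add, Pi.add_apply, hx, hy]
  have eΨ : ∀ (z : (∀ j, Sec G (U j)) ⊗[R] W) q,
      piL W _ (Ψ.rTensor W z) q = (res G (hV1 q)).toLinearMap.rTensor W (piL W _ z q.1.1) -
        (res G (hV2 q)).toLinearMap.rTensor W (piL W _ z q.1.2) := fun z q => by
    induction z using TensorProduct.induction_on with
    | zero => simp
    | tmul a w => simp only [LinearMap.rTensor_tmul, piL_tmul]; rw [← TensorProduct.sub_tmul]; rfl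
    | add x y hx hy => simp only [map_add, Pi.add_apply, hx, hy]; abel
  have hinjW := Module.Flat.rTensor_preserves_injective_linearMap (M := W) Φ hinj
  let T := (piL W fun j => Sec G (U j)).symm t
  have hT : ∀ j, piL W _ T j = t j := fun j => congrFun ((piL W _).apply_symm_apply t) j
  have h0 : Ψ.rTensor W T = 0 := (piL W _).injective (by
    rw [map_zero]
    funext q
    rw [eΨ, hT, hT, Pi.zero_apply, sub_eq_zero]
    exact ht _ _ _ _ _)
  obtain ⟨z, hz⟩ := (Module.Flat.rTensor_exact W hex T).1 h0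
  refine ⟨z, fun j => by rw [← eΦ, hz, hT], fun z' hz' => hinjW ((piL W _).injective (funext fun j => ?_))⟩
  rw [eΦ, hz' j, hz, hT]

end Groth.Agent.GModFgLib
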