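import Mathlib
import Groth.Prelude
import Groth.Agent.GModFgLib.Glue

/-!
# Stable finitely generated submodules when the global functions are projective
-/

set_option autoImplicit false
set_option backward.isDefEq.respectTransparency false
set_option backward.isDefEq.respectTransparency.types false
set_option linter.style.haveILetI false
set_option maxHeartbeats 2000000

universe u

open CategoryTheory AlgebraicGeometry MonObj
open scoped TensorProduct

noncomputable section

namespace Groth.Agent.GModFgLib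

attribute [local instance] topAlg

/-- Finitely many coordinates suffice for a finitely supported family in a projective module. -/
theorem exists_coords {R : Type u} [CommRing R] (A : Type u) [AddCommGroup A] [Module R A] [Module.Projective R A]
    {W : Type u} [AddCommGroup W] [Module R W] (d : A ⊗[R] W) :
    ∃ (n : ℕ) (φ : Fin n → A →ₗ[R] R) (b : Fin n → A),
      d = ∑ l, b l ⊗ₜ[R] (TensorProduct.lid R W ((φ l).rTensor W d)) := by
  classical
  obtain ⟨s, hs⟩ := Module.projective_def'.1 ‹Module.Projective R A›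
  obtain ⟨S, rfl⟩ := TensorProduct.exists_finset d
  let F : Finset A := S.biUnion fun p => (s p.1).support
  let e := F.equivFin.symm
  have hrec : ∀ p ∈ S, p.1 = ∑ l, (s p.1) (e l : A) • (e l : A) := fun p hp => by
    have h1 : Finsupp.linearCombination R id (s p.1) = p.1 := LinearMap.congr_fun hs p.1
    conv_lhs => rw [← h1]
    rw [Finsupp.linearCombination_apply,
      Finsupp.sum_of_support_subset (s p.1) (s := F)
        (fun x hx => Finset.mem_biUnion.2 ⟨p, hp, hx⟩) (fun (i : A) (r : R) => r • id i) (fun i _ => zero_smul R (id i)),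
      e.sum_comp (fun x : F => (s p.1) (x : A) • (x : A)), Finset.sum_coe_sort F (fun x => (s p.1) x • x)]
    rfl
  refine ⟨_, fun l => (Finsupp.lapply (e l : A)) ∘ₗ s, fun l => (e l : A), ?_⟩
  simp only [map_sum, LinearMap.rTensor_tmul, TensorProduct.lid_tmul, TensorProduct.tmul_sum]
  rw [Finset.sum_comm]
  refine Finset.sum_congr rfl fun p hp => ?_
  conv_lhs => rw [hrec p hp, TensorProduct.sum_tmul]
  refine Finset.sum_congr rfl fun l _ => ?_
  rw [TensorProduct.smul_tmul]
  rfl

variable {R : Type u} [CommRing R] {G : Over (Spec (CommRingCat.of R))} [GrpObj G]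
  {E : Type u} [AddCommGroup E] [Module R E] (m : VecGrp.GMod G E)

/-- Stable finitely generated submodules exist when the global functions form a projective module. -/
theorem exists_stable_of_projective [Flat G.hom] [QuasiCompact G.hom] [QuasiSeparated G.hom]
    [Module.Projective R Γ(G.left, ⊤)] [Module.Flat R E] (M : Submodule R E) (hM : M.FG) :
    ∃ N : Submodule R E, M ≤ N ∧ N.FG ∧
      ∀ (B : Type u) [CommRing B] [Algebra R B] (g : VecGrp.pt R B ⟶ G) (x : E), x ∈ N →
        m.ρ B g ((1 : B) ⊗ₜ[R] x) ∈ LinearMap.range (N.subtype.baseChange B) := by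
  classical
  haveI : CompactSpace ↥G.left := QuasiCompact.compactSpace_of_compactSpace G.hom
  obtain ⟨Us, hsub, hfin, heq⟩ := (Scheme.isBasis_affineOpens G.left).exists_finite_of_isCompact
    (U := ⊤) isCompact_univ
  haveI := hfin.fintype
  let e := (Fintype.equivFin Us).symm
  let U : Fin (Fintype.card Us) → G.left.affineOpens := fun i => ⟨(e i).1, hsub (e i).2⟩
  have hU : ⨆ i, (U i : G.left.Opens) = ⊤ := by
    rw [eq_top_iff, heq]
    refine sSup_le fun V hV => le_iSup_of_le (e.symm ⟨V, hV⟩) ?_
    show V ≤ ((e (e.symm ⟨V, hV⟩)).1 : G.left.Opens)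
    rw [e.apply_symm_apply]
  -- equalities at every point follow from equalities at the charts
  have key : ∀ (P : Submodule R E) (x : E),
      (∀ i, m.ρ _ (secPt G (U i)) ((1 : Sec G (U i)) ⊗ₜ[R] x) ∈ LinearMap.range (P.subtype.baseChange (Sec G (U i)))) →
      ∀ (B : Type u) [CommRing B] [Algebra R B] (g : VecGrp.pt R B ⟶ G),
        m.ρ B g ((1 : B) ⊗ₜ[R] x) ∈ LinearMap.range (P.subtype.baseChange B) := by
    intro P x hx B _ _ g
    obtain ⟨s, hs, hs'⟩ := locally_factors U hU B g
    refine mem_range_of_local P _ s hs fun b hb => ?_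
    obtain ⟨i, ψ, hψ⟩ := hs' b hb
    have h := Wmap_mem_range ψ P (hx i)
    rw [m.naturality, hψ] at h
    rw [m.naturality]
    simpa using h
  -- the coaction
  have hd : ∀ x : E, ∃ d : Γ(G.left, ⊤) ⊗[R] E, ∀ (B : Type u) [CommRing B] [Algebra R B] (g : VecGrp.pt R B ⟶ G),
      VecGrp.Wmap (ev g) d = m.ρ B g ((1 : B) ⊗ₜ[R] x) := by
    intro x
    obtain ⟨d, hd, -⟩ := exists_glue E U hU (fun j => m.ρ _ (secPt G (U j)) ((1 : Sec G (U j)) ⊗ₜ[R] x))
      (fun j k V hj hk => by
        show VecGrp.Wmap (res G hj) _ = VecGrp.Wmap (res G hk) _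
        rw [m.naturality, m.naturality, ptMap_res, ptMap_res, VecGrp.Wmap_tmul, VecGrp.Wmap_tmul, map_one, map_one])
    refine ⟨d, fun B _ _ g => ?_⟩
    obtain ⟨s, hs, hs'⟩ := locally_factors U hU B g
    rw [← sub_eq_zero]
    have h0 : VecGrp.Wmap (ev g) d - m.ρ B g ((1 : B) ⊗ₜ[R] x) ∈
        LinearMap.range ((⊥ : Submodule R E).subtype.baseChange B) := by
      refine mem_range_of_local ⊥ _ s hs fun b hb => ?_
      obtain ⟨i, ψ, hψ⟩ := hs' b hb
      have e1 : VecGrp.Wmap (IsScalarTower.toAlgHom R B (Localization.Away b)) (VecGrp.Wmap (ev g) d) =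
          VecGrp.Wmap ψ (VecGrp.Wmap (ev (secPt G (U i))) d) := by
        show ((_ : _ →ₗ[R] _).rTensor E) (((_ : _ →ₗ[R] _).rTensor E) d) =
          ((_ : _ →ₗ[R] _).rTensor E) (((_ : _ →ₗ[R] _).rTensor E) d)
        rw [← LinearMap.rTensor_comp_apply, ← LinearMap.rTensor_comp_apply]
        congr 2
        refine LinearMap.ext fun a => ?_
        show IsScalarTower.toAlgHom R B (Localization.Away b) (ev g a) = ψ (ev (secPt G (U i)) a)
        rw [← ev_ptMap, ← ev_ptMap, hψ]
      rw [map_sub, e1, show VecGrp.Wmap (ev (secPt G (U i))) d = _ from hd i, m.naturality, m.naturality, hψ,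
        VecGrp.Wmap_tmul, VecGrp.Wmap_tmul, map_one, map_one, sub_self]
      exact Submodule.zero_mem _
    obtain ⟨w, hw⟩ := h0
    rw [← hw, show w = 0 from ?_, map_zero]
    induction w using TensorProduct.induction_on with
    | zero => rfl
    | tmul a q => rw [Subsingleton.elim q 0, TensorProduct.tmul_zero]
    | add p q hp hq =>
      have : ∀ z : B ⊗[R] (⊥ : Submodule R E), z = 0 := fun z => by
        induction z using TensorProduct.induction_on with
        | zero => rfl
        | tmul a q => rw [Subsingleton.elim q 0, TensorProduct.tmul_zero]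
        | add p q hp hq => rw [hp, hq, add_zero]
      exact this _
  choose d hd using hd
  have hco := fun x => exists_coords Γ(G.left, ⊤) (d x)
  choose n φ b hb using hco
  let c : ∀ x : E, Fin (n x) → E := fun x l => TensorProduct.lid R E ((φ x l).rTensor E (d x))
  obtain ⟨S, hS⟩ := hM
  let gens : Set E := ⋃ x ∈ (S : Set E), Set.range (c x)
  let N : Submodule R E := Submodule.span R gens
  have hgens : gens.Finite := Set.Finite.biUnion S.finite_toSet fun x _ => Set.finite_range _
  have hcN : ∀ x ∈ S, ∀ l, c x l ∈ N := fun x hx l =>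
    Submodule.subset_span (Set.mem_biUnion hx ⟨l, rfl⟩)
  have hexp : ∀ (x : E) (B : Type u) [CommRing B] [Algebra R B] (g : VecGrp.pt R B ⟶ G),
      m.ρ B g ((1 : B) ⊗ₜ[R] x) = ∑ l, ev g (b x l) ⊗ₜ[R] c x l := fun x B _ _ g => by
    rw [← hd x B g]
    conv_lhs => rw [hb x]
    simp only [map_sum, VecGrp.Wmap_tmul]
    rfl
  have hMN : M ≤ N := by
    rw [← hS, Submodule.span_le]
    intro x hx
    have h1 := hexp x R 1
    rw [map_one] at h1
    have h2 := congrArg (TensorProduct.lid R E) h1
    simp only [map_sum, TensorProduct.lid_tmul, LinearEquiv.coe_one, id, one_smul] at h2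
    show x ∈ N
    rw [h2]
    exact Submodule.sum_mem _ fun l _ => Submodule.smul_mem _ _ (hcN x hx l)
  refine ⟨N, hMN, Submodule.fg_span hgens, fun B _ _ g y hy => key N y (fun i => ?_) B g⟩
  let L : E →ₗ[R] Sec G (U i) ⊗[R] E :=
    (m.ρ _ (secPt G (U i))).toLinearMap.restrictScalars R ∘ₗ TensorProduct.mk R (Sec G (U i)) E 1
  let P : Submodule R E :=
    ((LinearMap.range (N.subtype.baseChange (Sec G (U i)))).restrictScalars R).comap L
  suffices h : N ≤ P from h hy
  rw [Submodule.span_le]
  intro y' hy'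
  obtain ⟨x, hx, l, rfl⟩ : ∃ x ∈ S, ∃ l, c x l = y' := by
    simpa [gens] using hy'
  show L (c x l) ∈ LinearMap.range (N.subtype.baseChange (Sec G (U i)))
  let Ai := Sec G (U i)
  let Pt : ∀ j, VecGrp.pt R (Sec G (U j) ⊗[R] Ai) ⟶ G := fun j =>
    (VecGrp.ptMap (Algebra.TensorProduct.includeRight : Ai →ₐ[R] Sec G (U j) ⊗[R] Ai) ≫ secPt G (U i)) *
      (VecGrp.ptMap (Algebra.TensorProduct.includeLeft : Sec G (U j) →ₐ[R] Sec G (U j) ⊗[R] Ai) ≫ secPt G (U j))
  have hmu : ∀ a : Γ(G.left, ⊤), ∃ mu : Γ(G.left, ⊤) ⊗[R] Ai, ∀ j,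
      (ev (secPt G (U j))).toLinearMap.rTensor Ai mu = ev (Pt j) a := fun a =>
    (exists_glue Ai U hU (fun j => ev (Pt j) a) (fun j k V hj hk => by
      have e0 : ∀ (j : Fin _) (V : G.left.affineOpens) (h : (V : G.left.Opens) ≤ U j),
          (res G h).toLinearMap.rTensor Ai (ev (Pt j) a) =
            ev ((VecGrp.ptMap (Algebra.TensorProduct.includeRight : Ai →ₐ[R] Sec G V ⊗[R] Ai) ≫ secPt G (U i)) *
              (VecGrp.ptMap (Algebra.TensorProduct.includeLeft : Sec G V →ₐ[R] Sec G V ⊗[R] Ai) ≫ secPt G V)) a := by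
        intro j V h
        show Algebra.TensorProduct.map (res G h) (AlgHom.id R Ai) (ev (Pt j) a) = _
        rw [← ev_ptMap, MonObj.comp_mul]
        congr 3
        · rw [← Category.assoc]
          congr 1
          refine Over.OverMorphism.ext ?_
          show Spec.map _ ≫ Spec.map _ = Spec.map _
          rw [← Spec.map_comp]
          congr 1
          ext z
          simp
        · rw [← ptMap_res G h, ← Category.assoc, ← Category.assoc]
          congr 1
          refine Over.OverMorphism.ext ?_
          show Spec.map _ ≫ Spec.map _ = Spec.map _ ≫ Spec.map _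
          rw [← Spec.map_comp, ← Spec.map_comp]
          congr 1
      rw [e0 j V hj, e0 k V hk])).exists
  choose mu hmu using hmu
  let z : Γ(G.left, ⊤) ⊗[R] (Ai ⊗[R] E) := L.lTensor Γ(G.left, ⊤) (d x)
  let z' : Γ(G.left, ⊤) ⊗[R] (Ai ⊗[R] E) :=
    ∑ k, TensorProduct.assoc R Γ(G.left, ⊤) Ai E (mu (b x k) ⊗ₜ[R] c x k)
  have hzz : z = z' := by
    obtain ⟨w, -, hw⟩ := exists_glue (Ai ⊗[R] E) U hU
      (fun j => (ev (secPt G (U j))).toLinearMap.rTensor (Ai ⊗[R] E) z') (fun j k V hj hk => by
        rw [← LinearMap.rTensor_comp_apply, ← LinearMap.rTensor_comp_apply]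
        congr 2
        refine LinearMap.ext fun a => ?_
        show res G hj (ev (secPt G (U j)) a) = res G hk (ev (secPt G (U k)) a)
        rw [← ev_ptMap, ← ev_ptMap, ptMap_res, ptMap_res])
    refine (hw z fun j => ?_).trans (hw z' fun j => rfl).symm
    let C := Sec G (U j) ⊗[R] Ai
    let ia : Sec G (U j) →ₐ[R] C := Algebra.TensorProduct.includeLeft
    let ib : Ai →ₐ[R] C := Algebra.TensorProduct.includeRight
    let h := m.ρ C (VecGrp.ptMap ib ≫ secPt G (U i))
    have e1 : ∀ w : Γ(G.left, ⊤) ⊗[R] E,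
        (ev (secPt G (U j))).toLinearMap.rTensor (Ai ⊗[R] E) (L.lTensor Γ(G.left, ⊤) w) =
          TensorProduct.assoc R (Sec G (U j)) Ai E (h (VecGrp.Wmap ia (VecGrp.Wmap (ev (secPt G (U j))) w))) := by
      intro w
      induction w using TensorProduct.induction_on with
      | zero => simp
      | add p q hp hq => simp only [map_add, hp, hq]
      | tmul a e =>
        rw [VecGrp.Wmap_tmul, VecGrp.Wmap_tmul, LinearMap.lTensor_tmul, LinearMap.rTensor_tmul]
        have e2 : h ((ia (ev (secPt G (U j)) a)) ⊗ₜ[R] e) =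
            ((ev (secPt G (U j)) a) ⊗ₜ[R] (1 : Ai) : C) •
              VecGrp.Wmap ib (m.ρ _ (secPt G (U i)) ((1 : Ai) ⊗ₜ[R] e)) := by
          rw [m.naturality, ← map_smul, VecGrp.Wmap_tmul, map_one, TensorProduct.smul_tmul', smul_eq_mul,
            _root_.mul_one]
          rfl
        rw [e2]
        show ev (secPt G (U j)) a ⊗ₜ[R] (L e) = _
        generalize hq : m.ρ _ (secPt G (U i)) ((1 : Ai) ⊗ₜ[R] e) = q
        rw [show L e = q from hq]
        clear hq
        induction q using TensorProduct.induction_on with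
        | zero => simp
        | add p q hp hq => simp only [TensorProduct.tmul_add, map_add, smul_add, hp, hq]
        | tmul r q =>
          rw [VecGrp.Wmap_tmul, TensorProduct.smul_tmul', smul_eq_mul]
          show _ = TensorProduct.assoc R (Sec G (U j)) Ai E
            (((ev (secPt G (U j)) a ⊗ₜ[R] (1 : Ai)) * ((1 : Sec G (U j)) ⊗ₜ[R] r)) ⊗ₜ[R] q)
          rw [Algebra.TensorProduct.tmul_mul_tmul, _root_.mul_one, _root_.one_mul, TensorProduct.assoc_tmul]
    rw [e1, hd, m.naturality, VecGrp.Wmap_tmul, map_one, ← LinearEquiv.mul_apply, ← map_mul, hexp x C]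
    simp only [z', map_sum]
    refine Finset.sum_congr rfl fun k _ => ?_
    show TensorProduct.assoc R _ Ai E (ev (Pt j) (b x k) ⊗ₜ[R] c x k) = _
    rw [← hmu]
    generalize mu (b x k) = q
    induction q using TensorProduct.induction_on with
    | zero => simp
    | add p q hp hq => simp only [map_add, TensorProduct.add_tmul, hp, hq]
    | tmul a r => rw [LinearMap.rTensor_tmul, TensorProduct.assoc_tmul, TensorProduct.assoc_tmul, LinearMap.rTensor_tmul]
  have hL : L (c x l) = TensorProduct.lid R (Ai ⊗[R] E) ((φ x l).rTensor (Ai ⊗[R] E) z) := by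
    show L (TensorProduct.lid R E ((φ x l).rTensor E (d x))) = _
    simp only [z]
    generalize d x = q
    induction q using TensorProduct.induction_on with
    | zero => simp
    | add p q hp hq => simp only [map_add, hp, hq]
    | tmul a e => simp
  rw [hL, hzz]
  simp only [z', map_sum]
  refine Submodule.sum_mem _ fun k _ => ?_
  generalize mu (b x k) = q
  induction q using TensorProduct.induction_on with
  | zero => simp
  | add p q hp hq =>
    simp only [TensorProduct.add_tmul, map_add]
    exact Submodule.add_mem _ hp hq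
  | tmul a r =>
    rw [TensorProduct.assoc_tmul, LinearMap.rTensor_tmul, TensorProduct.lid_tmul, TensorProduct.smul_tmul']
    exact ⟨(φ x l a • r) ⊗ₜ[R] (⟨c x k, hcN x hx k⟩ : N), rfl⟩

end Groth.Agent.GModFgLib
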